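import Mathlib

set_option autoImplicit false

/-!
# Vaughan-Lee: basic group-theoretic definitions

`g3 G` is the third term of the lower central series, `Rsub U` the preimage of the centre
modulo a normal subgroup `U`, `Csub U x` the centraliser of `x` modulo `U`, and `GenCond` the
genericity condition on a list of generators used by the counting lemma.
-/

namespace Cfsg.Agent.Lib.Helper5.VL

open scoped commutatorElement

variable {G : Type*} [Group G]

/-- third term of the lower central series -/
def g3 (G : Type*) [Group G] : Subgroup G := ⁅commutator G, (⊤ : Subgroup G)⁆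

instance g3_normal : (g3 G).Normal := by
  unfold g3
  infer_instance

theorem g3_le_commutator : g3 G ≤ commutator G := by
  unfold g3
  exact Subgroup.commutator_le_left _ _

theorem commutator_mem_g3 {c g : G} (hc : c ∈ commutator G) : ⁅c, g⁆ ∈ g3 G :=
  Subgroup.commutator_mem_commutator hc (Subgroup.mem_top g)

/-- elements all of whose commutators lie in the normal subgroup `U` -/
def Rsub (U : Subgroup G) [hU : U.Normal] : Subgroup G where
  carrier := {x | ∀ g, ⁅x, g⁆ ∈ U}
  one_mem' := fun g => by rw [commutatorElement_one_left]; exact U.one_mem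
  mul_mem' := by
    intro x y hx hy g
    rw [commutatorElement_mul_left_eq_conj_mul]
    exact U.mul_mem (hU.conj_mem _ (hy g) x) (hx g)
  inv_mem' := by
    intro x hx g
    rw [commutatorElement_inv_left]
    have h1 : ⁅g, x⁆ ∈ U := by rw [← commutatorElement_inv]; exact U.inv_mem (hx g)
    have h2 := hU.conj_mem _ h1 x⁻¹
    rwa [inv_inv] at h2

theorem mem_Rsub {U : Subgroup G} [U.Normal] {x : G} : x ∈ Rsub U ↔ ∀ g, ⁅x, g⁆ ∈ U := Iff.rfl

/-- centraliser of `x` modulo the normal subgroup `U` -/
def Csub (U : Subgroup G) [hU : U.Normal] (x : G) : Subgroup G where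
  carrier := {g | ⁅x, g⁆ ∈ U}
  one_mem' := by
    show ⁅x, (1 : G)⁆ ∈ U
    rw [commutatorElement_one_right]; exact U.one_mem
  mul_mem' := by
    intro g h hg hh
    show ⁅x, g * h⁆ ∈ U
    rw [commutatorElement_mul_right_eq_mul_conj]
    have h2 := hU.conj_mem _ hh g
    have : ⁅x, g⁆ * g * ⁅x, h⁆ * g⁻¹ = ⁅x, g⁆ * (g * ⁅x, h⁆ * g⁻¹) := by group
    rw [this]
    exact U.mul_mem hg h2
  inv_mem' := by
    intro g hg
    show ⁅x, g⁻¹⁆ ∈ U
    rw [commutatorElement_inv_right]
    have h1 : ⁅g, x⁆ ∈ U := by rw [← commutatorElement_inv]; exact U.inv_mem hg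
    have h2 := hU.conj_mem _ h1 g⁻¹
    rwa [inv_inv] at h2

theorem mem_Csub {U : Subgroup G} [U.Normal] {x g : G} : g ∈ Csub U x ↔ ⁅x, g⁆ ∈ U := Iff.rfl

/-- the genericity condition on a list of generators -/
def GenCond (p : ℕ) {G : Type*} [Group G] : List G → Prop
  | [] => True
  | a :: l => (∃ T : Subgroup G, (∀ y, ⁅a, y⁆ ∈ g3 G → y ∈ T) ∧
      p ^ l.length ≤ T.relIndex (Subgroup.closure {x | x ∈ l})) ∧ GenCond p l

theorem subgroup_card_eq_inf_mul_relIndex (H K : Subgroup G) :
    Nat.card K = Nat.card ↥(H ⊓ K) * H.relIndex K := by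
  have h1 := (H.subgroupOf K).card_mul_index
  have h2 : Nat.card (H.subgroupOf K) = Nat.card ↥(H ⊓ K) := by
    rw [← Subgroup.inf_subgroupOf_right]
    exact Nat.card_congr (Subgroup.subgroupOfEquivOfLe inf_le_right).toEquiv
  rw [← h1, h2]; rfl

theorem set_of_mem_cons {α : Type*} (a : α) (l : List α) :
    {x | x ∈ a :: l} = insert a {x | x ∈ l} := by
  ext x; simp

end Cfsg.Agent.Lib.Helper5.VL
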