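import Mathlib

set_option autoImplicit false

/-!
# Vaughan-Lee, linear algebra part

A counting argument over a finite `ZMod p`-vector space: if every nonzero functional `l` carries a
subspace `R l` of codimension at least two inside `ker l`, and a relation `K` is controlled by
the `R l`, then the `K`-generic vectors span.
-/

namespace Cfsg.Agent.Lib.Helper5.VL

open Finset

theorem addSubgroup_card_eq_inf_mul_relIndex {D : Type*} [AddGroup D] (H K : AddSubgroup D) :
    Nat.card K = Nat.card ↥(H ⊓ K) * H.relIndex K := by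
  have h1 := (H.addSubgroupOf K).card_mul_index
  have h2 : Nat.card (H.addSubgroupOf K) = Nat.card ↥(H ⊓ K) := by
    rw [← AddSubgroup.inf_addSubgroupOf_right]
    exact Nat.card_congr (AddSubgroup.addSubgroupOfEquivOfLe inf_le_right).toEquiv
  rw [← h1, h2]; rfl

theorem card_le_mul_card_ker_inf {p : ℕ} [hp : Fact p.Prime] {D : Type*} [AddGroup D]
    (f : D →+ ZMod p) (E : AddSubgroup D) :
    Nat.card E ≤ p * Nat.card ↥(f.ker ⊓ E) := by
  rw [addSubgroup_card_eq_inf_mul_relIndex f.ker E, AddSubgroup.relIndex_ker, mul_comm]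
  apply Nat.mul_le_mul_right
  have : NeZero p := ⟨hp.out.ne_zero⟩
  calc Nat.card (E.map f) ≤ Nat.card (ZMod p) :=
        Nat.card_le_card_of_injective _ Subtype.val_injective
    _ = p := by simp

theorem card_eq_mul_card_ker_inf {p : ℕ} [hp : Fact p.Prime] {D : Type*} [AddGroup D]
    (f : D →+ ZMod p) (E : AddSubgroup D) (h : ∃ e ∈ E, f e ≠ 0) :
    Nat.card E = p * Nat.card ↥(f.ker ⊓ E) := by
  rw [addSubgroup_card_eq_inf_mul_relIndex f.ker E, AddSubgroup.relIndex_ker, mul_comm]
  congr 1
  have : NeZero p := ⟨hp.out.ne_zero⟩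
  have : Fact (Nat.card (ZMod p)).Prime := ⟨by simpa using hp.out⟩
  have htop : E.map f = ⊤ := by
    rcases AddSubgroup.eq_bot_or_eq_top_of_prime_card (E.map f) with h0 | h1
    · exfalso
      obtain ⟨e, he, hfe⟩ := h
      apply hfe
      have : f e ∈ E.map f := AddSubgroup.mem_map_of_mem f he
      rw [h0] at this
      exact (AddSubgroup.mem_bot).mp this
    · exact h1
  rw [htop]
  simp

theorem card_filter_mem_addSubgroup {D : Type*} [AddGroup D] [Fintype D] (S : AddSubgroup D)
    [DecidablePred fun x => x ∈ S] :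
    (univ.filter fun x => x ∈ S).card = Nat.card S := by
  classical
  rw [Nat.card_eq_fintype_card, Fintype.card_subtype]

/-- `K`-generic vectors. -/
def IsGen (p : ℕ) {V : Type*} [AddCommGroup V] [Module (ZMod p) V] (K : V → V → Prop) (x : V) :
    Prop :=
  x ≠ 0 ∧ ∀ y, K x y → y ∈ Submodule.span (ZMod p) {x}

theorem card_eq_mul_card_ker {p : ℕ} [hp : Fact p.Prime] {D : Type*} [AddGroup D]
    (f : D →+ ZMod p) (h : ∃ e, f e ≠ 0) : Nat.card D = p * Nat.card f.ker := by
  have := card_eq_mul_card_ker_inf f ⊤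
    (by obtain ⟨e, he⟩ := h; exact ⟨e, AddSubgroup.mem_top e, he⟩)
  rwa [inf_top_eq, AddSubgroup.card_top] at this

theorem arith_functionals (p a b c N : ℕ) (hp : 1 ≤ p) (h1 : N = p * a) (h2 : a = p * b)
    (h3 : b + c = a) : p ^ 2 * c = (p - 1) * N := by
  obtain ⟨q, rfl⟩ := Nat.exists_eq_add_of_le hp
  subst h1 h2
  have hc : c = q * b := by nlinarith
  subst hc
  simp only [Nat.add_sub_cancel_left]
  ring

section Count

variable {p : ℕ} [hp : Fact p.Prime] {V : Type*} [AddCommGroup V] [Module (ZMod p) V]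

/-- evaluation at `x` as an additive hom on the dual -/
def evalHom (p : ℕ) {V : Type*} [AddCommGroup V] [Module (ZMod p) V] (x : V) :
    Module.Dual (ZMod p) V →+ ZMod p :=
  (Module.Dual.eval (ZMod p) V x).toAddMonoidHom

theorem evalHom_apply (x : V) (l : Module.Dual (ZMod p) V) : evalHom p x l = l x := rfl

theorem natCard_dual [Finite V] : Nat.card (Module.Dual (ZMod p) V) = Nat.card V := by
  rw [Module.natCard_eq_pow_finrank (K := ZMod p) (V := Module.Dual (ZMod p) V),
    Module.natCard_eq_pow_finrank (K := ZMod p) (V := V), Subspace.dual_finrank_eq]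

theorem finite_dual [Finite V] : Finite (Module.Dual (ZMod p) V) :=
  Finite.of_injective (fun f => (f : V → ZMod p)) DFunLike.coe_injective

theorem card_functionals [Finite V] [Fintype (Module.Dual (ZMod p) V)] (x y : V) (hx : x ≠ 0)
    (hy : y ∉ Submodule.span (ZMod p) {x})
    [DecidablePred fun l : Module.Dual (ZMod p) V => l x = 0 ∧ l y ≠ 0] :
    p ^ 2 * (univ.filter fun l : Module.Dual (ZMod p) V => l x = 0 ∧ l y ≠ 0).card
      = (p - 1) * Nat.card V := by
  classical
  have hx' : x ∉ (⊥ : Submodule (ZMod p) V) := by simpa using hx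
  obtain ⟨l1, hl1, -⟩ := Submodule.exists_le_ker_of_notMem hx'
  obtain ⟨l2, hl2, hl2x⟩ := Submodule.exists_le_ker_of_notMem hy
  have hl2x0 : l2 x = 0 := hl2x (Submodule.mem_span_singleton_self x)
  set A : AddSubgroup (Module.Dual (ZMod p) V) := (evalHom p x).ker with hA
  set B : AddSubgroup (Module.Dual (ZMod p) V) := (evalHom p y).ker ⊓ A with hB
  have h1 : Nat.card (Module.Dual (ZMod p) V) = p * Nat.card A :=
    card_eq_mul_card_ker (evalHom p x) ⟨l1, hl1⟩
  have h2 : Nat.card A = p * Nat.card B :=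
    card_eq_mul_card_ker_inf (evalHom p y) A ⟨l2, by
      rw [hA, AddMonoidHom.mem_ker, evalHom_apply]; exact hl2x0, hl2⟩
  rw [natCard_dual] at h1
  have e1 : (univ.filter fun l : Module.Dual (ZMod p) V => l ∈ A).card = Nat.card A :=
    card_filter_mem_addSubgroup A
  have e2 : (univ.filter fun l : Module.Dual (ZMod p) V => l ∈ B).card = Nat.card B :=
    card_filter_mem_addSubgroup B
  have e3 := Finset.card_filter_add_card_filter_not
    (s := univ.filter fun l : Module.Dual (ZMod p) V => l ∈ A) (fun l => l y = 0)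
  rw [Finset.filter_filter, Finset.filter_filter, e1] at e3
  have e4 : (univ.filter fun l : Module.Dual (ZMod p) V => l ∈ A ∧ l y = 0)
      = univ.filter fun l : Module.Dual (ZMod p) V => l ∈ B := by
    apply Finset.filter_congr
    intro l _
    rw [hB, AddSubgroup.mem_inf, AddMonoidHom.mem_ker, evalHom_apply]
    tauto
  have e5 : (univ.filter fun l : Module.Dual (ZMod p) V => l ∈ A ∧ ¬ l y = 0)
      = univ.filter fun l : Module.Dual (ZMod p) V => l x = 0 ∧ l y ≠ 0 := by
    apply Finset.filter_congr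
    intro l _
    rw [hA, AddMonoidHom.mem_ker, evalHom_apply]
  rw [e4, e2, e5] at e3
  exact arith_functionals p _ _ _ _ hp.out.pos h1 h2 e3

end Count

theorem arith_below (p a c k kl N : ℕ) (hp : 1 ≤ p) (h1 : k + a = c) (h2 : c ≤ p * k)
    (h3 : p * c ≤ kl) (h4 : N = p * kl) : p ^ 3 * a ≤ (p - 1) * N := by
  obtain ⟨q, rfl⟩ := Nat.exists_eq_add_of_le hp
  subst h4 h1
  simp only [Nat.add_sub_cancel_left]
  have ha : a ≤ q * k := by nlinarith
  calc (1 + q) ^ 3 * a = (1 + q) ^ 2 * ((1 + q) * a) := by ring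
    _ ≤ (1 + q) ^ 2 * (q * (k + a)) := by apply Nat.mul_le_mul_left; nlinarith
    _ = q * ((1 + q) * ((1 + q) * (k + a))) := by ring
    _ ≤ q * ((1 + q) * kl) := by
        apply Nat.mul_le_mul_left; apply Nat.mul_le_mul_left; exact h3

theorem arith_final (X Y S T N : ℕ) (hs : X + N = Y) (ht : T + 1 = N) (h5 : X ≤ T)
    (h6 : 2 * N ≤ Y) : False := by omega

section Main

variable {p : ℕ} [hp : Fact p.Prime] {V : Type*} [AddCommGroup V] [Module (ZMod p) V]

theorem card_filter_mem_submodule [Fintype V] (S : Submodule (ZMod p) V)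
    [DecidablePred fun x => x ∈ S] :
    (univ.filter fun x => x ∈ S).card = Nat.card S := by
  classical
  rw [Nat.card_eq_fintype_card, Fintype.card_subtype]

theorem card_filter_ker [Fintype V] (l : Module.Dual (ZMod p) V) (hl : l ≠ 0)
    [DecidablePred fun x => l x = 0] :
    Nat.card V = p * (univ.filter fun x => l x = 0).card := by
  classical
  obtain ⟨x, hx⟩ : ∃ x, l x ≠ 0 := by
    by_contra h
    push_neg at h
    exact hl (LinearMap.ext h)
  have h1 := card_eq_mul_card_ker l.toAddMonoidHom ⟨x, hx⟩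
  rw [h1, ← card_filter_mem_addSubgroup]
  congr 2
  apply Finset.filter_congr
  intro y _
  rw [AddMonoidHom.mem_ker]
  rfl

theorem mul_card_le_card_of_lt [Finite V] (S T : Submodule (ZMod p) V) (h : S < T) :
    p * Nat.card S ≤ Nat.card T := by
  have h1 := Submodule.finrank_lt_finrank_of_lt h
  rw [Module.natCard_eq_pow_finrank (K := ZMod p) (V := S),
    Module.natCard_eq_pow_finrank (K := ZMod p) (V := T), Nat.card_zmod, ← pow_succ']
  exact Nat.pow_le_pow_right hp.out.pos h1

theorem span_isGen_eq_top [Finite V]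
    (R : Module.Dual (ZMod p) V → Submodule (ZMod p) V)
    (hR1 : ∀ l, l ≠ 0 → R l ≤ LinearMap.ker l)
    (hR2 : ∀ l, l ≠ 0 → R l ≠ LinearMap.ker l)
    (K : V → V → Prop)
    (hK : ∀ l : Module.Dual (ZMod p) V, l ≠ 0 → ∀ v w, l v = 0 → K v w → v ∉ R l → l w = 0) :
    Submodule.span (ZMod p) {x | IsGen p K x} = ⊤ := by
  classical
  by_contra hne
  obtain ⟨l0, hl0, hle⟩ := Submodule.exists_le_ker_of_lt_top _ (lt_top_iff_ne_top.mpr hne)
  haveI : Fintype V := Fintype.ofFinite V
  haveI : Finite (Module.Dual (ZMod p) V) := finite_dual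
  haveI : Fintype (Module.Dual (ZMod p) V) := Fintype.ofFinite _
  have hNpos : 0 < Nat.card V := Nat.card_pos
  have hp2 : 2 ≤ p := hp.out.two_le
  have hnongen : ∀ x, l0 x ≠ 0 → ∃ y, K x y ∧ y ∉ Submodule.span (ZMod p) {x} := by
    intro x hx
    have hxg : ¬ IsGen p K x := fun hg => hx (hle (Submodule.subset_span hg))
    have hx0 : x ≠ 0 := by rintro rfl; exact hx (map_zero l0)
    unfold IsGen at hxg
    push_neg at hxg
    exact hxg hx0
  let s : Finset V := univ.filter fun x => l0 x ≠ 0
  let t : Finset (Module.Dual (ZMod p) V) := univ.filter fun l => l ≠ 0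
  let r : V → Module.Dual (ZMod p) V → Prop := fun x l => x ∈ R l
  have hcount :=
    Finset.sum_card_bipartiteAbove_eq_sum_card_bipartiteBelow (s := s) (t := t) (r := r)
  -- (1)
  have hs : p * s.card + Nat.card V = p * Nat.card V := by
    have h1 := card_filter_ker l0 hl0
    have h2 := Finset.card_filter_add_card_filter_not (s := (univ : Finset V))
      (fun x => l0 x = 0)
    rw [Finset.card_univ, ← Nat.card_eq_fintype_card] at h2
    have : s.card = (univ.filter fun x => ¬ l0 x = 0).card := rfl
    rw [this]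
    nlinarith
  -- (2)
  have ht : t.card + 1 = Nat.card V := by
    have h2 := Finset.card_filter_add_card_filter_not
      (s := (univ : Finset (Module.Dual (ZMod p) V))) (fun l => l = 0)
    rw [Finset.card_univ, ← Nat.card_eq_fintype_card, natCard_dual] at h2
    have h3 : (univ.filter fun l : Module.Dual (ZMod p) V => l = 0).card = 1 := by
      rw [Finset.filter_eq']; simp
    have : t.card = (univ.filter fun l : Module.Dual (ZMod p) V => ¬ l = 0).card := rfl
    rw [this]
    omega
  -- (3)
  have h3 : ∀ x ∈ s, (p - 1) * Nat.card V ≤ p ^ 2 * (t.bipartiteAbove r x).card := by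
    intro x hx
    have hx' : l0 x ≠ 0 := (Finset.mem_filter.mp hx).2
    obtain ⟨y, hKxy, hy⟩ := hnongen x hx'
    have hx0 : x ≠ 0 := by rintro rfl; exact hx' (map_zero l0)
    rw [← card_functionals x y hx0 hy]
    apply Nat.mul_le_mul_left
    apply Finset.card_le_card
    intro l hl
    obtain ⟨hlx, hly⟩ := (Finset.mem_filter.mp hl).2
    have hl0' : l ≠ 0 := by rintro rfl; exact hly rfl
    rw [Finset.bipartiteAbove, Finset.mem_filter]
    refine ⟨Finset.mem_filter.mpr ⟨Finset.mem_univ _, hl0'⟩, ?_⟩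
    by_contra hnot
    exact hly (hK l hl0' x y hlx hKxy hnot)
  -- (4)
  have h4 : ∀ l ∈ t, p ^ 3 * (s.bipartiteBelow r l).card ≤ (p - 1) * Nat.card V := by
    intro l hl
    have hl0' : l ≠ 0 := (Finset.mem_filter.mp hl).2
    have hlt : R l < LinearMap.ker l := lt_of_le_of_ne (hR1 l hl0') (hR2 l hl0')
    have e5 := mul_card_le_card_of_lt _ _ hlt
    rw [← card_filter_mem_submodule, ← card_filter_mem_submodule] at e5
    have e6 := card_filter_ker l hl0'
    have e7 : (univ.filter fun x => x ∈ LinearMap.ker l) = univ.filter fun x => l x = 0 := by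
      apply Finset.filter_congr; intro x _; exact LinearMap.mem_ker
    rw [e7] at e5
    have e2 := Finset.card_filter_add_card_filter_not (s := univ.filter fun x => x ∈ R l)
      (fun x => l0 x = 0)
    rw [Finset.filter_filter, Finset.filter_filter] at e2
    have e3 : (univ.filter fun x => x ∈ R l ∧ l0 x = 0).card
        = Nat.card ↥(l0.toAddMonoidHom.ker ⊓ (R l).toAddSubgroup) := by
      rw [← card_filter_mem_addSubgroup]
      congr 1
      apply Finset.filter_congr
      intro x _
      rw [AddSubgroup.mem_inf, AddMonoidHom.mem_ker, Submodule.mem_toAddSubgroup]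
      exact and_comm
    have e4 := card_le_mul_card_ker_inf l0.toAddMonoidHom (R l).toAddSubgroup
    rw [← e3, ← card_filter_mem_addSubgroup] at e4
    have e8 : (univ.filter fun x => x ∈ (R l).toAddSubgroup) = univ.filter fun x => x ∈ R l := by
      apply Finset.filter_congr; intro x _; exact Submodule.mem_toAddSubgroup _
    rw [e8] at e4
    have e9 : s.bipartiteBelow r l = univ.filter fun x => x ∈ R l ∧ ¬ l0 x = 0 := by
      ext x
      simp only [Finset.bipartiteBelow, Finset.mem_filter, Finset.mem_univ, true_and, s, r]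
      exact and_comm
    rw [e9]
    exact arith_below p _ _ _ _ _ hp.out.pos e2 e4 e5 e6
  -- combine
  have hL : s.card * ((p - 1) * Nat.card V)
      ≤ p ^ 2 * ∑ x ∈ s, (t.bipartiteAbove r x).card := by
    rw [Finset.mul_sum, ← smul_eq_mul, ← Finset.sum_const]
    exact Finset.sum_le_sum h3
  have hR : p ^ 3 * ∑ l ∈ t, (s.bipartiteBelow r l).card
      ≤ t.card * ((p - 1) * Nat.card V) := by
    rw [Finset.mul_sum, ← smul_eq_mul (a := t.card), ← Finset.sum_const]
    exact Finset.sum_le_sum h4
  have h7 : p * (s.card * ((p - 1) * Nat.card V)) ≤ t.card * ((p - 1) * Nat.card V) := by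
    calc p * (s.card * ((p - 1) * Nat.card V))
        ≤ p * (p ^ 2 * ∑ x ∈ s, (t.bipartiteAbove r x).card) := Nat.mul_le_mul_left _ hL
      _ = p ^ 3 * ∑ l ∈ t, (s.bipartiteBelow r l).card := by rw [hcount]; ring
      _ ≤ _ := hR
  have hpos : 0 < (p - 1) * Nat.card V := Nat.mul_pos (by omega) hNpos
  have h5 : p * s.card ≤ t.card := by
    have : (p * s.card) * ((p - 1) * Nat.card V) ≤ t.card * ((p - 1) * Nat.card V) := by
      rw [mul_assoc]; exact h7
    exact Nat.le_of_mul_le_mul_right this hpos
  have h6 : 2 * Nat.card V ≤ p * Nat.card V := Nat.mul_le_mul_right _ hp2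
  exact arith_final _ _ s.card _ _ hs ht h5 h6

end Main

end Cfsg.Agent.Lib.Helper5.VL
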