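import Cfsg.Agent.Lib.Helper5.VL.Grp
import Cfsg.Agent.Lib.Helper5.VL.LinAlg

set_option autoImplicit false

/-!
# Vaughan-Lee: from the group to linear algebra over the Frattini quotient
-/

namespace Cfsg.Agent.Lib.Helper5.VL

open scoped commutatorElement

theorem image_list_set' {α β : Type*} (f : α → β) (l : List α) :
    f '' {x | x ∈ l} = {x | x ∈ l.map f} := by
  ext x
  simp only [Set.mem_image, Set.mem_ofPred_eq, List.mem_map]

section Bridge

variable {p : ℕ} [hp : Fact p.Prime] {G : Type*} [Group G]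
  {Q : Type*} [CommGroup Q] [Module (ZMod p) (Additive Q)]

/-- the character of `G` attached to a functional on `Additive Q` -/
def chi (π : G →* Q) (l : Module.Dual (ZMod p) (Additive Q)) : G →* Multiplicative (ZMod p) where
  toFun g := Multiplicative.ofAdd (l (Additive.ofMul (π g)))
  map_one' := by
    rw [map_one, ofMul_one, map_zero, ofAdd_zero]
  map_mul' a b := by
    rw [map_mul, ofMul_mul, map_add, ofAdd_add]

/-- the index-`p` subgroup attached to a functional -/
def Mlam (π : G →* Q) (l : Module.Dual (ZMod p) (Additive Q)) : Subgroup G := (chi π l).ker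

theorem mem_Mlam (π : G →* Q) (l : Module.Dual (ZMod p) (Additive Q)) (g : G) :
    g ∈ Mlam π l ↔ l (Additive.ofMul (π g)) = 0 := by
  unfold Mlam
  rw [MonoidHom.mem_ker]
  show Multiplicative.ofAdd (l (Additive.ofMul (π g))) = 1 ↔ _
  rw [← ofAdd_zero]
  exact Multiplicative.ofAdd.injective.eq_iff

instance Mlam_normal (π : G →* Q) (l : Module.Dual (ZMod p) (Additive Q)) :
    (Mlam π l).Normal := by
  unfold Mlam
  infer_instance

theorem index_Mlam (π : G →* Q) (hπ : Function.Surjective π)
    (l : Module.Dual (ZMod p) (Additive Q)) (hl : l ≠ 0) : (Mlam π l).index = p := by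
  unfold Mlam
  rw [Subgroup.index_ker]
  have hsurj : Function.Surjective (chi π l) := by
    obtain ⟨v, hv⟩ : ∃ v, l v ≠ 0 := by
      by_contra h
      push_neg at h
      exact hl (LinearMap.ext h)
    intro c
    obtain ⟨g, hg⟩ := hπ (Additive.toMul ((Multiplicative.toAdd c * (l v)⁻¹) • v))
    refine ⟨g, ?_⟩
    show Multiplicative.ofAdd (l (Additive.ofMul (π g))) = c
    rw [hg, ofMul_toMul, map_smul, smul_eq_mul, mul_assoc, inv_mul_cancel₀ hv, mul_one,
      ofAdd_toAdd]
  rw [MonoidHom.range_eq_top.mpr hsurj, Subgroup.card_top,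
    Nat.card_congr Multiplicative.toAdd, Nat.card_zmod]

/-- `[M, M] γ₃(G)` for the index-`p` subgroup attached to a functional -/
def Ulam (π : G →* Q) (l : Module.Dual (ZMod p) (Additive Q)) : Subgroup G :=
  ⁅Mlam π l, Mlam π l⁆ ⊔ g3 G

instance Ulam_normal (π : G →* Q) (l : Module.Dual (ZMod p) (Additive Q)) :
    (Ulam π l).Normal := by
  unfold Ulam
  infer_instance

/-- preimage of the centre of `G / U` -/
def Rlam (π : G →* Q) (l : Module.Dual (ZMod p) (Additive Q)) : Subgroup G :=
  Rsub (Ulam π l)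

theorem not_commutator_le_Ulam [Finite G] (hG : IsPGroup p G) (π : G →* Q)
    (hπ : Function.Surjective π)
    (hB : ∀ M : Subgroup G, M.index = p → ⁅M, M⁆ ≠ commutator G)
    (l : Module.Dual (ZMod p) (Additive Q)) (hl : l ≠ 0) : ¬ commutator G ≤ Ulam π l := by
  intro h
  have h1 : commutator G ≤ ⁅Mlam π l, Mlam π l⁆ := commutator_le_of_sup_g3 hG _ h
  apply hB (Mlam π l) (index_Mlam π hπ l hl)
  apply le_antisymm _ h1
  rw [commutator_def]
  exact Subgroup.commutator_mono le_top le_top

theorem Rlam_le_Mlam [Finite G] (hG : IsPGroup p G) (π : G →* Q)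
    (hπ : Function.Surjective π)
    (hB : ∀ M : Subgroup G, M.index = p → ⁅M, M⁆ ≠ commutator G)
    (l : Module.Dual (ZMod p) (Additive Q)) (hl : l ≠ 0) : Rlam π l ≤ Mlam π l := by
  intro x hx
  by_contra hxM
  have htop := sup_zpowers_eq_top_of_index_prime (index_Mlam π hπ l hl) hxM
  apply not_commutator_le_Ulam hG π hπ hB l hl
  apply commutator_le_of_sup_eq_top (Ulam π l) (Mlam π l) (Subgroup.zpowers x) _ _ htop
  · exact le_sup_left
  · rw [Subgroup.zpowers_le]; exact hx

theorem not_Mlam_le_Rlam_sup [Finite G] (hG : IsPGroup p G) (π : G →* Q)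
    (hπ : Function.Surjective π)
    (hB : ∀ M : Subgroup G, M.index = p → ⁅M, M⁆ ≠ commutator G)
    (l : Module.Dual (ZMod p) (Additive Q)) (hl : l ≠ 0) :
    ¬ Mlam π l ≤ Rlam π l ⊔ frattini G := by
  intro h
  have hidx := index_Mlam π hπ l hl
  have hne : Mlam π l ≠ ⊤ := by
    intro htop
    rw [htop, Subgroup.index_top] at hidx
    exact hp.out.one_lt.ne hidx
  obtain ⟨t, -, ht⟩ := SetLike.exists_of_lt (lt_top_iff_ne_top.mpr hne)
  have htop := sup_zpowers_eq_top_of_index_prime hidx ht
  have h2 : (Subgroup.zpowers t ⊔ Rlam π l) ⊔ frattini G = ⊤ := by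
    rw [eq_top_iff, ← htop]
    apply sup_le
    · refine h.trans (sup_le ?_ le_sup_right)
      exact le_sup_right.trans le_sup_left
    · exact le_sup_left.trans le_sup_left
  have h3 := frattini_nongenerating h2
  apply not_commutator_le_Ulam hG π hπ hB l hl
  exact commutator_le_of_sup_eq_top (Ulam π l) (Subgroup.zpowers t) (Rlam π l)
    (commutator_zpowers_le t _) le_rfl h3

/-- image of `Rlam` in `Additive Q`, as a submodule -/
def RV (π : G →* Q) (l : Module.Dual (ZMod p) (Additive Q)) :
    Submodule (ZMod p) (Additive Q) :=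
  AddSubgroup.toZModSubmodule p (Subgroup.toAddSubgroup ((Rlam π l).map π))

theorem mem_RV (π : G →* Q) (l : Module.Dual (ZMod p) (Additive Q)) (v : Additive Q) :
    v ∈ RV π l ↔ ∃ x ∈ Rlam π l, π x = Additive.toMul v := by
  unfold RV
  rw [AddSubgroup.mem_toZModSubmodule, Additive.mem_toAddSubgroup, Subgroup.mem_map]

/-- the relation `[x, y] ∈ γ₃(G)` pushed to `Additive Q` -/
def KV (π : G →* Q) (v w : Additive Q) : Prop :=
  ∃ x y : G, π x = Additive.toMul v ∧ π y = Additive.toMul w ∧ ⁅x, y⁆ ∈ g3 G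

theorem RV_le_ker [Finite G] (hG : IsPGroup p G) (π : G →* Q)
    (hπ : Function.Surjective π)
    (hB : ∀ M : Subgroup G, M.index = p → ⁅M, M⁆ ≠ commutator G)
    (l : Module.Dual (ZMod p) (Additive Q)) (hl : l ≠ 0) : RV π l ≤ LinearMap.ker l := by
  intro v hv
  obtain ⟨x, hx, hxv⟩ := (mem_RV π l v).mp hv
  have h1 := (mem_Mlam π l x).mp (Rlam_le_Mlam hG π hπ hB l hl hx)
  rw [hxv, ofMul_toMul] at h1
  exact LinearMap.mem_ker.mpr h1

theorem RV_ne_ker [Finite G] (hG : IsPGroup p G) (π : G →* Q)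
    (hπ : Function.Surjective π) (hker : π.ker = frattini G)
    (hB : ∀ M : Subgroup G, M.index = p → ⁅M, M⁆ ≠ commutator G)
    (l : Module.Dual (ZMod p) (Additive Q)) (hl : l ≠ 0) : RV π l ≠ LinearMap.ker l := by
  intro heq
  apply not_Mlam_le_Rlam_sup hG π hπ hB l hl
  intro m hm
  have h1 : Additive.ofMul (π m) ∈ RV π l := by
    rw [heq, LinearMap.mem_ker]
    exact (mem_Mlam π l m).mp hm
  obtain ⟨x, hx, hxm⟩ := (mem_RV π l _).mp h1
  rw [toMul_ofMul] at hxm
  have h2 : x⁻¹ * m ∈ frattini G := by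
    rw [← hker, MonoidHom.mem_ker, map_mul, map_inv, hxm, inv_mul_cancel]
  have : m = x * (x⁻¹ * m) := by group
  rw [this]
  exact Subgroup.mul_mem_sup hx h2

theorem KV_spec (π : G →* Q)
    (hπ : Function.Surjective π)
    (l : Module.Dual (ZMod p) (Additive Q)) (hl : l ≠ 0) (v w : Additive Q)
    (hv : l v = 0) (hK : KV π v w) (hvR : v ∉ RV π l) : l w = 0 := by
  obtain ⟨x, y, hxv, hyw, hxy⟩ := hK
  have hxM : x ∈ Mlam π l := by
    rw [mem_Mlam, hxv, ofMul_toMul]; exact hv
  have hxR : x ∉ Rlam π l := fun h => hvR ((mem_RV π l v).mpr ⟨x, h, hxv⟩)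
  have hMC : Mlam π l ≤ Csub (Ulam π l) x := by
    intro m hm
    rw [mem_Csub]
    exact le_sup_left (a := ⁅Mlam π l, Mlam π l⁆)
      (Subgroup.commutator_mem_commutator hxM hm)
  have hCne : Csub (Ulam π l) x ≠ ⊤ := by
    intro htop
    apply hxR
    intro g
    have : g ∈ Csub (Ulam π l) x := by rw [htop]; exact Subgroup.mem_top g
    exact this
  have hCM := eq_of_index_prime_le (index_Mlam π hπ l hl) hMC hCne
  have hyC : y ∈ Csub (Ulam π l) x := by
    rw [mem_Csub]
    exact le_sup_right (a := ⁅Mlam π l, Mlam π l⁆) hxy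
  rw [hCM, mem_Mlam, hyw, ofMul_toMul] at hyC
  exact hyC

theorem span_generic_eq_top [Finite G] [Finite Q] (hG : IsPGroup p G) (π : G →* Q)
    (hπ : Function.Surjective π) (hker : π.ker = frattini G)
    (hB : ∀ M : Subgroup G, M.index = p → ⁅M, M⁆ ≠ commutator G) :
    Submodule.span (ZMod p) {v : Additive Q | IsGen p (KV π) v} = ⊤ :=
  span_isGen_eq_top (RV π) (RV_le_ker hG π hπ hB) (RV_ne_ker hG π hπ hker hB) (KV π)
    (KV_spec π hπ)

theorem closure_generic_eq_top [Finite G] [Finite Q] (hG : IsPGroup p G) (π : G →* Q)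
    (hπ : Function.Surjective π) (hker : π.ker = frattini G)
    (hB : ∀ M : Subgroup G, M.index = p → ⁅M, M⁆ ≠ commutator G) :
    Subgroup.closure {q : Q | IsGen p (KV π) (Additive.ofMul q)} = ⊤ := by
  have h1 := span_generic_eq_top hG π hπ hker hB
  set S := Subgroup.closure {q : Q | IsGen p (KV π) (Additive.ofMul q)} with hS
  have h2 : Submodule.span (ZMod p) {v : Additive Q | IsGen p (KV π) v}
      ≤ AddSubgroup.toZModSubmodule p (Subgroup.toAddSubgroup S) := by
    rw [Submodule.span_le]
    intro v hv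
    rw [SetLike.mem_coe, AddSubgroup.mem_toZModSubmodule, Additive.mem_toAddSubgroup]
    apply Subgroup.subset_closure
    show IsGen p (KV π) (Additive.ofMul (Additive.toMul v))
    rw [ofMul_toMul]; exact hv
  rw [h1] at h2
  rw [eq_top_iff]
  intro q _
  have := h2 (Submodule.mem_top (x := Additive.ofMul q))
  rw [AddSubgroup.mem_toZModSubmodule, Additive.mem_toAddSubgroup, toMul_ofMul] at this
  exact this

theorem pow_p_eq_one_of_module (q : Q) : q ^ p = 1 := by
  have h1 : (p : ZMod p) • Additive.ofMul q = 0 := by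
    rw [ZMod.natCast_self, zero_smul]
  rw [Nat.cast_smul_eq_nsmul, ← ofMul_pow] at h1
  exact h1

theorem mem_zpowers_of_mem_span {q r : Q}
    (h : Additive.ofMul r ∈ Submodule.span (ZMod p) {Additive.ofMul q}) :
    r ∈ Subgroup.zpowers q := by
  obtain ⟨c, hc⟩ := Submodule.mem_span_singleton.mp h
  have h1 : c • Additive.ofMul q = (c.val : ZMod p) • Additive.ofMul q := by
    rw [ZMod.natCast_zmod_val]
  rw [h1, Nat.cast_smul_eq_nsmul, ← ofMul_pow] at hc
  have : r = q ^ c.val := (Additive.ofMul.injective hc).symm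
  rw [this]
  exact Subgroup.pow_mem _ (Subgroup.mem_zpowers q) _

theorem genCond_of_generic [Finite G] [Finite Q] (hG : IsPGroup p G) (π : G →* Q)
    (hπ : Function.Surjective π) (s : Q → G) (hs : ∀ q, π (s q) = q) :
    ∀ lq : List Q, (∀ q ∈ lq, IsGen p (KV π) (Additive.ofMul q)) → MIndep lq →
      GenCond p (lq.map s) := by
  have hQ : IsPGroup p Q := hG.of_surjective π hπ
  intro lq
  induction lq with
  | nil => intro _ _; exact trivial
  | cons q lq ih =>
    intro hgen hind
    obtain ⟨hq, hind'⟩ := hind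
    refine ⟨⟨(Subgroup.zpowers q).comap π, ?_, ?_⟩,
      ih (fun r hr => hgen r (List.mem_cons_of_mem _ hr)) hind'⟩
    · intro y hy
      rw [Subgroup.mem_comap]
      have hg := hgen q List.mem_cons_self
      apply mem_zpowers_of_mem_span (p := p)
      apply hg.2
      exact ⟨s q, y, by rw [hs, toMul_ofMul], by rw [toMul_ofMul], hy⟩
    · rw [Subgroup.relIndex_comap, MonoidHom.map_closure, image_list_set', List.map_map]
      have hcomp : lq.map (⇑π ∘ s) = lq := by
        conv_rhs => rw [← List.map_id lq]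
        apply List.map_congr_left
        intro r _
        exact hs r
      rw [hcomp, List.length_map,
        relIndex_eq_card_of_disjoint
          (disjoint_zpowers_of_not_mem (pow_p_eq_one_of_module (p := p) q) _ hq)]
      exact pow_length_le_card_closure hQ lq hind'

theorem exists_genList [Finite G] [Finite Q] (hG : IsPGroup p G) (π : G →* Q)
    (hπ : Function.Surjective π) (hker : π.ker = frattini G)
    (hB : ∀ M : Subgroup G, M.index = p → ⁅M, M⁆ ≠ commutator G) :
    ∃ l : List G, Subgroup.closure {x | x ∈ l} = ⊤ ∧ GenCond p l := by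
  obtain ⟨lq, hlq1, hlq2, hlq3⟩ :=
    exists_list_of_closure_eq_top _ (closure_generic_eq_top hG π hπ hker hB)
  set s : Q → G := Function.surjInv hπ with hsdef
  have hs : ∀ q, π (s q) = q := Function.surjInv_eq hπ
  refine ⟨lq.map s, ?_, genCond_of_generic hG π hπ s hs lq hlq1 hlq3⟩
  have h1 : (Subgroup.closure {x | x ∈ lq.map s}).map π = ⊤ := by
    rw [MonoidHom.map_closure, image_list_set', List.map_map]
    have hcomp : lq.map (⇑π ∘ s) = lq := by
      conv_rhs => rw [← List.map_id lq]
      apply List.map_congr_left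
      intro r _
      exact hs r
    rw [hcomp, hlq2]
  have h2 : Subgroup.closure {x | x ∈ lq.map s} ⊔ frattini G = ⊤ := by
    rw [← hker, ← Subgroup.comap_map_eq, h1, Subgroup.comap_top]
  exact frattini_nongenerating h2

end Bridge

end Cfsg.Agent.Lib.Helper5.VL
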