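import Cfsg.Agent.Lib.Helper5.VL.Basic

set_option autoImplicit false

/-!
# Vaughan-Lee: group-theoretic lemmas for the bridge
-/

namespace Cfsg.Agent.Lib.Helper5.VL

open scoped commutatorElement

section Grp

variable {G : Type*} [Group G]

theorem normal_le_Rsub_sup (N L : Subgroup G) [hN : N.Normal] [hL : L.Normal] :
    N ⊔ L ≤ Rsub (N ⊔ ⁅L, (⊤ : Subgroup G)⁆) := by
  apply sup_le
  · intro n hn g
    apply Subgroup.mem_sup_left
    have h1 : g * n⁻¹ * g⁻¹ ∈ N := hN.conj_mem _ (N.inv_mem hn) g
    have : ⁅n, g⁆ = n * (g * n⁻¹ * g⁻¹) := by rw [commutatorElement_def]; group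
    rw [this]
    exact N.mul_mem hn h1
  · intro c hc g
    apply Subgroup.mem_sup_right
    exact Subgroup.commutator_mem_commutator hc (Subgroup.mem_top g)

theorem commutator_le_sup_lcs (N : Subgroup G) [hN : N.Normal]
    (h : commutator G ≤ N ⊔ g3 G) (k : ℕ) :
    commutator G ≤ N ⊔ (⊤ : Subgroup G).lowerCentralSeries (k + 1) := by
  induction k with
  | zero => exact le_sup_right
  | succ k ih =>
    refine h.trans (sup_le le_sup_left ?_)
    unfold g3
    rw [Subgroup.commutator_le]
    intro c hc g _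
    have h1 := normal_le_Rsub_sup N ((⊤ : Subgroup G).lowerCentralSeries (k + 1)) (ih hc)
    exact h1 g

theorem commutator_le_of_sup_g3 [Finite G] {p : ℕ} [hp : Fact p.Prime] (hG : IsPGroup p G)
    (N : Subgroup G) [hN : N.Normal] (h : commutator G ≤ N ⊔ g3 G) : commutator G ≤ N := by
  have hnil : Group.IsNilpotent G := hG.isNilpotent
  obtain ⟨n, hn⟩ := Subgroup.nilpotent_iff_lowerCentralSeries.mp hnil
  have h1 := commutator_le_sup_lcs N h n
  have h2 : (⊤ : Subgroup G).lowerCentralSeries (n + 1) = ⊥ := by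
    have := (⊤ : Subgroup G).lowerCentralSeries_antitone (Nat.le_succ n)
    rw [hn] at this
    exact le_bot_iff.mp this
  rwa [h2, sup_bot_eq] at h1

theorem commutator_le_of_sup_eq_top (U : Subgroup G) [hU : U.Normal] (A Z : Subgroup G)
    (hA : ⁅A, A⁆ ≤ U) (hZ : Z ≤ Rsub U) (h : A ⊔ Z = ⊤) : commutator G ≤ U := by
  have hAR : A ≤ Rsub U := by
    intro a ha g
    have h1 : A ⊔ Z ≤ Csub U a := by
      apply sup_le
      · intro a' ha'
        exact hA (Subgroup.commutator_mem_commutator ha ha')
      · intro z hz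
        rw [mem_Csub, ← commutatorElement_inv]
        exact U.inv_mem (hZ hz a)
    rw [h] at h1
    exact h1 (Subgroup.mem_top g)
  have hR : Rsub U = ⊤ := by
    rw [eq_top_iff, ← h]
    exact sup_le hAR hZ
  rw [commutator_def, Subgroup.commutator_le]
  intro g _ k _
  have : g ∈ Rsub U := by rw [hR]; exact Subgroup.mem_top g
  exact this k

theorem eq_of_index_prime_le {p : ℕ} [hp : Fact p.Prime] {M C : Subgroup G}
    (hM : M.index = p) (hle : M ≤ C) (hC : C ≠ ⊤) : C = M := by
  have h1 := Subgroup.relIndex_mul_index hle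
  rw [hM] at h1
  have h2 : C.index ≠ 1 := fun h => hC (Subgroup.index_eq_one.mp h)
  have h3 : C.index ∣ p := Dvd.intro_left _ h1
  rcases (Nat.dvd_prime hp.out).mp h3 with h | h
  · exact absurd h h2
  · rw [h] at h1
    have h4 : M.relIndex C = 1 := by
      have hp0 : 0 < p := hp.out.pos
      nlinarith
    exact le_antisymm (Subgroup.relIndex_eq_one.mp h4) hle

theorem sup_zpowers_eq_top_of_index_prime {p : ℕ} [hp : Fact p.Prime] {M : Subgroup G}
    (hM : M.index = p) {t : G} (ht : t ∉ M) : M ⊔ Subgroup.zpowers t = ⊤ := by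
  by_contra h
  have := eq_of_index_prime_le hM le_sup_left h
  apply ht
  rw [← this]
  exact Subgroup.mem_sup_right (Subgroup.mem_zpowers t)

theorem commutator_zpowers_le (t : G) (U : Subgroup G) :
    ⁅Subgroup.zpowers t, Subgroup.zpowers t⁆ ≤ U := by
  rw [Subgroup.commutator_le]
  intro a ha b hb
  obtain ⟨i, rfl⟩ := Subgroup.mem_zpowers_iff.mp ha
  obtain ⟨j, rfl⟩ := Subgroup.mem_zpowers_iff.mp hb
  have : ⁅t ^ i, t ^ j⁆ = 1 := by
    rw [commutatorElement_eq_one_iff_commute]
    exact (Commute.refl t).zpow_zpow i j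
  rw [this]; exact U.one_mem

/-- group-theoretic independence of a list -/
def MIndep {Q : Type*} [Group Q] : List Q → Prop
  | [] => True
  | a :: l => a ∉ Subgroup.closure {x | x ∈ l} ∧ MIndep l

theorem exists_list_of_closure_eq_top {Q : Type*} [Group Q] [Finite Q] (S : Set Q)
    (hS : Subgroup.closure S = ⊤) :
    ∃ l : List Q, (∀ v ∈ l, v ∈ S) ∧ Subgroup.closure {x | x ∈ l} = ⊤ ∧ MIndep l := by
  have key : ∀ E : Subgroup Q,
      (∃ l : List Q, (∀ v ∈ l, v ∈ S) ∧ Subgroup.closure {x | x ∈ l} = E ∧ MIndep l) →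
      ∃ l : List Q, (∀ v ∈ l, v ∈ S) ∧ Subgroup.closure {x | x ∈ l} = ⊤ ∧ MIndep l := by
    intro E
    induction E using WellFoundedGT.induction with
    | ind E ih =>
      rintro ⟨l, hl1, hl2, hl3⟩
      by_cases hE : E = ⊤
      · exact ⟨l, hl1, hl2.trans hE, hl3⟩
      · have hnot : ¬ S ⊆ (E : Set Q) := by
          intro h
          apply hE
          rw [eq_top_iff, ← hS]
          exact (Subgroup.closure_le E).mpr h
        obtain ⟨a, haS, haE⟩ := Set.not_subset.mp hnot
        apply ih (Subgroup.closure {x | x ∈ a :: l})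
        · rw [← hl2]
          refine lt_of_le_of_ne (Subgroup.closure_mono ?_) ?_
          · intro x hx
            exact List.mem_cons_of_mem _ hx
          · intro h
            apply haE
            rw [SetLike.mem_coe, ← hl2, h]
            exact Subgroup.subset_closure List.mem_cons_self
        · refine ⟨a :: l, ?_, rfl, ?_, hl3⟩
          · intro v hv
            rcases List.mem_cons.mp hv with rfl | h
            · exact haS
            · exact hl1 v h
          · rw [hl2]; exact haE
  exact key ⊥ ⟨[], by simp, by simp, trivial⟩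

theorem mul_card_le_card_of_lt_pgroup {Q : Type*} [Group Q] [Finite Q] {p : ℕ}
    [hp : Fact p.Prime] (hQ : IsPGroup p Q) {H K : Subgroup Q} (h : H < K) :
    p * Nat.card H ≤ Nat.card K := by
  have h1 := subgroup_card_eq_inf_mul_relIndex H K
  rw [inf_eq_left.mpr h.le] at h1
  have hrel1 : H.relIndex K ≠ 1 := by
    intro h2
    exact (not_le_of_gt h) (Subgroup.relIndex_eq_one.mp h2)
  have hdvd : H.relIndex K ∣ Nat.card Q :=
    (Subgroup.relIndex_dvd_card _ _).trans (Subgroup.card_subgroup_dvd_card K)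
  obtain ⟨n, hn⟩ := IsPGroup.iff_card.mp hQ
  rw [hn, Nat.dvd_prime_pow hp.out] at hdvd
  obtain ⟨j, -, hj⟩ := hdvd
  have hj1 : 1 ≤ j := by
    by_contra h0
    have : j = 0 := by omega
    rw [this, pow_zero] at hj
    exact hrel1 hj
  have hpr : p ≤ H.relIndex K := by
    rw [hj]
    calc p = p ^ 1 := (pow_one p).symm
      _ ≤ p ^ j := Nat.pow_le_pow_right hp.out.pos hj1
  rw [h1, mul_comm]
  exact Nat.mul_le_mul_left _ hpr

theorem pow_length_le_card_closure {Q : Type*} [Group Q] [Finite Q] {p : ℕ}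
    [hp : Fact p.Prime] (hQ : IsPGroup p Q) :
    ∀ l : List Q, MIndep l → p ^ l.length ≤ Nat.card (Subgroup.closure {x | x ∈ l}) := by
  intro l
  induction l with
  | nil => intro _; simp
  | cons a l ih =>
    rintro ⟨ha, hl⟩
    have hlt : Subgroup.closure {x | x ∈ l} < Subgroup.closure {x | x ∈ a :: l} := by
      refine lt_of_le_of_ne (Subgroup.closure_mono ?_) ?_
      · intro x hx
        exact List.mem_cons_of_mem _ hx
      · intro h
        apply ha
        rw [h]
        exact Subgroup.subset_closure List.mem_cons_self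
    have h1 := mul_card_le_card_of_lt_pgroup hQ hlt
    rw [List.length_cons, pow_succ']
    exact (Nat.mul_le_mul_left _ (ih hl)).trans h1

theorem disjoint_zpowers_of_not_mem {Q : Type*} [Group Q] {p : ℕ} [hp : Fact p.Prime]
    {a : Q} (hap : a ^ p = 1) (H : Subgroup Q) (ha : a ∉ H) :
    Disjoint (Subgroup.zpowers a) H := by
  have ha1 : a ≠ 1 := by
    rintro rfl
    exact ha H.one_mem
  have hord : orderOf a = p := by
    rcases (Nat.dvd_prime hp.out).mp (orderOf_dvd_of_pow_eq_one hap) with h | h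
    · exact absurd (orderOf_eq_one_iff.mp h) ha1
    · exact h
  have hcard : Nat.card (Subgroup.zpowers a) = p := by
    rw [Nat.card_zpowers, hord]
  haveI : Fact (Nat.card (Subgroup.zpowers a)).Prime := ⟨by rw [hcard]; exact hp.out⟩
  rw [disjoint_comm, ← Subgroup.subgroupOf_eq_bot]
  rcases Subgroup.eq_bot_or_eq_top_of_prime_card (H.subgroupOf (Subgroup.zpowers a)) with h | h
  · exact h
  · exfalso
    apply ha
    rw [Subgroup.subgroupOf_eq_top] at h
    exact h (Subgroup.mem_zpowers a)

theorem relIndex_eq_card_of_disjoint {Q : Type*} [Group Q] {H K : Subgroup Q}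
    (h : Disjoint H K) : H.relIndex K = Nat.card K := by
  unfold Subgroup.relIndex
  rw [Subgroup.subgroupOf_eq_bot.mpr h, Subgroup.index_bot]

end Grp

end Cfsg.Agent.Lib.Helper5.VL
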