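import Cfsg.Agent.Lib.Helper5.VL.Basic

set_option autoImplicit false

/-!
# Vaughan-Lee: the counting lemma

For a finite `p`-group generated by a list `l` satisfying `GenCond p l`,
`|G'| * p ^ (n choose 2) ≤ ∏ |G : C_G(x)|` over `x ∈ l`, `n = l.length`.
-/

namespace Cfsg.Agent.Lib.Helper5.VL

open scoped commutatorElement

section Base

variable {G : Type*} [Group G]

theorem relIndex_ne_zero_of_finite [Finite G] (H K : Subgroup G) : H.relIndex K ≠ 0 := by
  unfold Subgroup.relIndex
  exact Subgroup.index_ne_zero_of_finite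

theorem commElem_mem_commutator (a h : G) : ⁅a, h⁆ ∈ commutator G := by
  rw [commutator_def]
  exact Subgroup.commutator_mem_commutator (Subgroup.mem_top a) (Subgroup.mem_top h)

/-- `g ↦ ⁅a, g⁆` as a hom when commutators are central -/
def thetaHom (hcl : ∀ c ∈ commutator G, ∀ g : G, c * g = g * c) (a : G) : G →* G :=
  MonoidHom.mk' (fun g => ⁅a, g⁆) (by
    intro g h
    show ⁅a, g * h⁆ = ⁅a, g⁆ * ⁅a, h⁆
    rw [commutatorElement_mul_right_eq_mul_conj]
    have hc : ⁅a, h⁆ * g⁻¹ = g⁻¹ * ⁅a, h⁆ := hcl _ (commElem_mem_commutator a h) g⁻¹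
    rw [mul_assoc, mul_assoc, hc]
    simp)

variable (hcl : ∀ c ∈ commutator G, ∀ g : G, c * g = g * c)

theorem thetaHom_apply (a g : G) : thetaHom hcl a g = ⁅a, g⁆ := rfl

theorem thetaHom_ker (a : G) : (thetaHom hcl a).ker = Subgroup.centralizer {a} := by
  ext g
  rw [MonoidHom.mem_ker, thetaHom_apply, commutatorElement_eq_one_iff_mul_comm,
    Subgroup.mem_centralizer_iff]
  simp

theorem thetaHom_range_le (a : G) : (thetaHom hcl a).range ≤ commutator G := by
  rintro _ ⟨g, rfl⟩
  exact commElem_mem_commutator a g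

/-- the join of the subgroups `⁅a, G⁆` over a list -/
def Ssup (hcl : ∀ c ∈ commutator G, ∀ g : G, c * g = g * c) : List G → Subgroup G
  | [] => ⊥
  | a :: l => (thetaHom hcl a).range ⊔ Ssup hcl l

theorem Ssup_le (l : List G) : Ssup hcl l ≤ commutator G := by
  induction l with
  | nil => exact bot_le
  | cons a l ih => exact sup_le (thetaHom_range_le hcl a) ih

theorem Ssup_normal (l : List G) : (Ssup hcl l).Normal := by
  constructor
  intro n hn g
  have h1 : n * g⁻¹ = g⁻¹ * n := hcl n (Ssup_le hcl l hn) g⁻¹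
  have : g * n * g⁻¹ = n := by rw [mul_assoc, h1]; group
  rw [this]; exact hn

theorem range_le_Ssup {l : List G} {x : G} (hx : x ∈ l) :
    (thetaHom hcl x).range ≤ Ssup hcl l := by
  induction l with
  | nil => simp at hx
  | cons a l ih =>
    rcases List.mem_cons.mp hx with rfl | h
    · exact le_sup_left
    · exact (ih h).trans le_sup_right

theorem commutator_le_Ssup (l : List G) (hl : Subgroup.closure {x | x ∈ l} = ⊤) :
    commutator G ≤ Ssup hcl l := by
  haveI := Ssup_normal hcl l
  have h1 : Subgroup.closure {x | x ∈ l} ≤ Rsub (Ssup hcl l) := by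
    rw [Subgroup.closure_le]
    intro x hx g
    exact range_le_Ssup hcl hx ⟨g, rfl⟩
  rw [hl] at h1
  rw [commutator_def, Subgroup.commutator_le]
  intro g _ h _
  exact h1 (Subgroup.mem_top g) h

theorem base_step [Finite G] {p : ℕ} (a : G) (l : List G)
    (hgen : ∃ T : Subgroup G, (∀ y, ⁅a, y⁆ ∈ g3 G → y ∈ T) ∧
      p ^ l.length ≤ T.relIndex (Subgroup.closure {x | x ∈ l})) :
    Nat.card (Ssup hcl (a :: l)) * p ^ l.length
      ≤ Nat.card (Ssup hcl l) * (Subgroup.centralizer {a}).index := by
  obtain ⟨T, hT1, hT2⟩ := hgen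
  set P := Subgroup.closure {x | x ∈ l} with hP
  set A := (thetaHom hcl a).range with hA
  set Q := P.map (thetaHom hcl a) with hQ
  haveI := Ssup_normal hcl l
  have hQA : Q ≤ A := by
    rw [hQ, hA, MonoidHom.range_eq_map]
    exact Subgroup.map_mono le_top
  have hQS : Q ≤ Ssup hcl l := by
    rw [hQ, hP, MonoidHom.map_closure, Subgroup.closure_le]
    rintro _ ⟨x, hx, rfl⟩
    have : thetaHom hcl a x = (thetaHom hcl x a)⁻¹ := by
      rw [thetaHom_apply, thetaHom_apply, commutatorElement_inv]
    rw [this]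
    exact (Ssup hcl l).inv_mem (range_le_Ssup hcl hx ⟨a, rfl⟩)
  have hcardQ : Nat.card Q = (Subgroup.centralizer {a}).relIndex P := by
    rw [← thetaHom_ker hcl a, Subgroup.relIndex_ker]
  have hcentT : Subgroup.centralizer {a} ≤ T := by
    intro y hy
    apply hT1
    have : ⁅a, y⁆ = 1 := by
      rw [commutatorElement_eq_one_iff_mul_comm]
      exact (Subgroup.mem_centralizer_iff.mp hy) a rfl
    rw [this]; exact (g3 G).one_mem
  have hQge : p ^ l.length ≤ Nat.card Q := by
    rw [hcardQ]
    exact hT2.trans (Subgroup.relIndex_le_of_le_left hcentT (relIndex_ne_zero_of_finite _ _))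
  have hcardA : Nat.card A = (Subgroup.centralizer {a}).index := by
    rw [← thetaHom_ker hcl a, Subgroup.index_ker]
  have h1 : Nat.card (Ssup hcl (a :: l))
      = Nat.card (Ssup hcl l) * (Ssup hcl l).relIndex A := by
    have := subgroup_card_eq_inf_mul_relIndex (Ssup hcl l) (A ⊔ Ssup hcl l)
    rw [inf_eq_left.mpr le_sup_right, Subgroup.relIndex_sup_right] at this
    exact this
  have h2 : (Ssup hcl l).relIndex A ≤ Q.relIndex A :=
    Subgroup.relIndex_le_of_le_left hQS (relIndex_ne_zero_of_finite _ _)
  have h3 : Nat.card A = Nat.card Q * Q.relIndex A := by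
    have := subgroup_card_eq_inf_mul_relIndex Q A
    rwa [inf_eq_left.mpr hQA] at this
  rw [h1, ← hcardA, h3]
  calc Nat.card (Ssup hcl l) * (Ssup hcl l).relIndex A * p ^ l.length
      ≤ Nat.card (Ssup hcl l) * Q.relIndex A * Nat.card Q :=
        Nat.mul_le_mul (Nat.mul_le_mul_left _ h2) hQge
    _ = Nat.card (Ssup hcl l) * (Nat.card Q * Q.relIndex A) := by ring

theorem base_bound [Finite G] {p : ℕ} : ∀ l : List G, GenCond p l →
    Nat.card (Ssup hcl l) * p ^ (l.length.choose 2)
      ≤ (l.map fun x => (Subgroup.centralizer {x}).index).prod := by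
  intro l
  induction l with
  | nil =>
    intro _
    simp [Ssup]
  | cons a l ih =>
    intro hgen
    obtain ⟨hgen1, hgen2⟩ := hgen
    have h1 := base_step hcl a l hgen1
    have h2 := ih hgen2
    have hch : (a :: l).length.choose 2 = l.length + l.length.choose 2 := by
      rw [List.length_cons, Nat.choose_succ_succ' l.length 1, Nat.choose_one_right]
    rw [hch, pow_add, List.map_cons, List.prod_cons]
    calc Nat.card (Ssup hcl (a :: l)) * (p ^ l.length * p ^ l.length.choose 2)
        = (Nat.card (Ssup hcl (a :: l)) * p ^ l.length) * p ^ l.length.choose 2 := by ring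
      _ ≤ (Nat.card (Ssup hcl l) * (Subgroup.centralizer {a}).index)
            * p ^ l.length.choose 2 := Nat.mul_le_mul_right _ h1
      _ = (Subgroup.centralizer {a}).index
            * (Nat.card (Ssup hcl l) * p ^ l.length.choose 2) := by ring
      _ ≤ _ := Nat.mul_le_mul_left _ h2

end Base

section Step

variable {G : Type*} [Group G]

theorem lcs_two_eq_g3 : (⊤ : Subgroup G).lowerCentralSeries 2 = g3 G := rfl

theorem commElem_pow_left_of_central {y a : G} (hw : ⁅y, a⁆ ∈ Subgroup.center G) (m : ℕ) :
    ⁅y ^ m, a⁆ = ⁅y, a⁆ ^ m := by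
  induction m with
  | zero => simp
  | succ m ih =>
    rw [pow_succ, commutatorElement_mul_left_eq_conj_mul, ih, pow_succ]
    have h1 : y ^ m * ⁅y, a⁆ = ⁅y, a⁆ * y ^ m := (Subgroup.mem_center_iff.mp hw (y ^ m))
    rw [h1, mul_assoc ⁅y, a⁆, mul_inv_cancel, mul_one]
    exact ((Commute.refl ⁅y, a⁆).pow_right m)

theorem exists_central_comm [Finite G] {p : ℕ} [hp : Fact p.Prime] (hG : IsPGroup p G)
    (l : List G) (hl : Subgroup.closure {x | x ∈ l} = ⊤) (h3 : g3 G ≠ ⊥) :
    ∃ a y z : G, a ∈ l ∧ ⁅y, a⁆ = z ∧ z ∈ Subgroup.center G ∧ z ∈ g3 G ∧ orderOf z = p := by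
  classical
  have hnil : Group.IsNilpotent G := hG.isNilpotent
  have hex : ∃ n, (⊤ : Subgroup G).lowerCentralSeries n = ⊥ :=
    Subgroup.nilpotent_iff_lowerCentralSeries.mp hnil
  set k := Nat.find hex with hk
  have hkbot : (⊤ : Subgroup G).lowerCentralSeries k = ⊥ := Nat.find_spec hex
  have hk3 : 3 ≤ k := by
    by_contra hlt
    push_neg at hlt
    have hle : k ≤ 2 := by omega
    have := (⊤ : Subgroup G).lowerCentralSeries_antitone hle
    rw [hkbot, lcs_two_eq_g3] at this
    exact h3 (le_bot_iff.mp this)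
  obtain ⟨i, hi⟩ : ∃ i, k = i + 2 := ⟨k - 2, by omega⟩
  have hj_ne : (⊤ : Subgroup G).lowerCentralSeries (i + 1) ≠ ⊥ := by
    intro h
    have := Nat.find_min hex (m := i + 1) (by omega)
    exact this h
  have hj_central : (⊤ : Subgroup G).lowerCentralSeries (i + 1) ≤ Subgroup.center G := by
    rw [← Subgroup.commutator_top_right_eq_bot_iff_le_center]
    have : (⊤ : Subgroup G).lowerCentralSeries (i + 1 + 1) = ⊥ := by
      rw [← hkbot, hi]
    exact this
  have hj_g3 : (⊤ : Subgroup G).lowerCentralSeries (i + 1) ≤ g3 G := by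
    rw [← lcs_two_eq_g3]
    exact (⊤ : Subgroup G).lowerCentralSeries_antitone (by omega)
  -- find y in lcs i not central
  have hy : ∃ y ∈ (⊤ : Subgroup G).lowerCentralSeries i, ∃ g : G, ⁅y, g⁆ ≠ 1 := by
    by_contra hcon
    push_neg at hcon
    apply hj_ne
    rw [Subgroup.lowerCentralSeries_succ, eq_bot_iff, Subgroup.commutator_le]
    intro y hy g _
    rw [Subgroup.mem_bot]
    exact hcon y hy g
  obtain ⟨y, hyi, g, hyg⟩ := hy
  have ha : ∃ a ∈ l, ⁅y, a⁆ ≠ 1 := by
    by_contra hcon
    push_neg at hcon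
    have h1 : Subgroup.closure {x | x ∈ l} ≤ Subgroup.centralizer {y} := by
      rw [Subgroup.closure_le]
      intro x hx
      rw [SetLike.mem_coe, Subgroup.mem_centralizer_iff]
      intro h hh
      rw [Set.mem_singleton_iff] at hh
      subst hh
      exact (commutatorElement_eq_one_iff_mul_comm.mp (hcon x hx))
    rw [hl] at h1
    apply hyg
    rw [commutatorElement_eq_one_iff_mul_comm]
    exact (Subgroup.mem_centralizer_iff.mp (h1 (Subgroup.mem_top g))) y rfl
  obtain ⟨a, hal, hya⟩ := ha
  have hw_mem : ⁅y, a⁆ ∈ (⊤ : Subgroup G).lowerCentralSeries (i + 1) := by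
    rw [Subgroup.lowerCentralSeries_succ]
    exact Subgroup.commutator_mem_commutator hyi (Subgroup.mem_top a)
  have hw_c : ⁅y, a⁆ ∈ Subgroup.center G := hj_central hw_mem
  obtain ⟨n, hn⟩ := (IsPGroup.iff_orderOf.mp hG) ⁅y, a⁆
  have hn1 : 1 ≤ n := by
    by_contra h0
    have : n = 0 := by omega
    rw [this, pow_zero, orderOf_eq_one_iff] at hn
    exact hya hn
  refine ⟨a, y ^ (p ^ (n - 1)), ⁅y, a⁆ ^ (p ^ (n - 1)), hal,
    commElem_pow_left_of_central hw_c _, Subgroup.pow_mem _ hw_c _,
    Subgroup.pow_mem _ (hj_g3 hw_mem) _, ?_⟩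
  have hdvd : p ^ (n - 1) ∣ orderOf ⁅y, a⁆ := by
    rw [hn]; exact pow_dvd_pow p (by omega)
  rw [orderOf_pow_of_dvd (pow_ne_zero _ hp.out.ne_zero) hdvd, hn]
  have : p ^ n = p ^ (n - 1) * p := by
    rw [← pow_succ]; congr 1; omega
  rw [this, Nat.mul_div_cancel_left _ (pow_pos hp.out.pos _)]

theorem map_commutator_of_surjective {H : Type*} [Group H] (f : G →* H)
    (hf : Function.Surjective f) : (commutator G).map f = commutator H := by
  rw [commutator_def, commutator_def, Subgroup.map_commutator,
    Subgroup.map_top_of_surjective f hf]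

theorem map_g3_of_surjective {H : Type*} [Group H] (f : G →* H)
    (hf : Function.Surjective f) : (g3 G).map f = g3 H := by
  unfold g3
  rw [Subgroup.map_commutator, map_commutator_of_surjective f hf,
    Subgroup.map_top_of_surjective f hf]

theorem image_list_set {α β : Type*} (f : α → β) (l : List α) :
    f '' {x | x ∈ l} = {x | x ∈ l.map f} := by
  ext x
  simp only [Set.mem_image, Set.mem_ofPred_eq, List.mem_map]

theorem genCond_map {H : Type*} [Group H] (f : G →* H) (hf : Function.Surjective f)
    (hk1 : f.ker ≤ g3 G) (hk2 : f.ker ≤ Subgroup.center G) {p : ℕ} :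
    ∀ l : List G, GenCond p l → GenCond p (l.map f) := by
  intro l
  induction l with
  | nil => intro _; exact trivial
  | cons a l ih =>
    rintro ⟨⟨T, hT1, hT2⟩, hrest⟩
    refine ⟨⟨T.map f, ?_, ?_⟩, ih hrest⟩
    · intro y' hy'
      obtain ⟨y, rfl⟩ := hf y'
      rw [← map_commutatorElement, ← map_g3_of_surjective f hf] at hy'
      obtain ⟨w, hw, hwe⟩ := hy'
      have hker : w⁻¹ * ⁅a, y⁆ ∈ f.ker := by
        rw [MonoidHom.mem_ker, map_mul, map_inv, hwe, inv_mul_cancel]
      have : ⁅a, y⁆ ∈ g3 G := by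
        have := (g3 G).mul_mem hw (hk1 hker)
        rwa [mul_inv_cancel_left] at this
      exact Subgroup.mem_map_of_mem f (hT1 y this)
    · have hkT : f.ker ≤ T := by
        intro z hz
        apply hT1
        have hzc := hk2 hz
        have : ⁅a, z⁆ = 1 := by
          rw [commutatorElement_eq_one_iff_mul_comm]
          exact Subgroup.mem_center_iff.mp hzc a
        rw [this]; exact (g3 G).one_mem
      rw [List.length_map, ← image_list_set, ← MonoidHom.map_closure, ← Subgroup.relIndex_comap,
        Subgroup.comap_map_eq_self hkT]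
      exact hT2

theorem list_prod_le {α : Type*} (g h : α → ℕ) :
    ∀ l : List α, (∀ x ∈ l, g x ≤ h x) → (l.map g).prod ≤ (l.map h).prod := by
  intro l
  induction l with
  | nil => intro _; simp
  | cons b l ih =>
    intro hle
    rw [List.map_cons, List.map_cons, List.prod_cons, List.prod_cons]
    exact Nat.mul_le_mul (hle b List.mem_cons_self)
      (ih fun x hx => hle x (List.mem_cons_of_mem _ hx))

theorem list_prod_mul_le {α : Type*} (g h : α → ℕ) (p : ℕ) :
    ∀ l : List α, (∀ x ∈ l, g x ≤ h x) → (∃ a ∈ l, g a * p ≤ h a) →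
      (l.map g).prod * p ≤ (l.map h).prod := by
  intro l
  induction l with
  | nil => rintro _ ⟨a, ha, _⟩; simp at ha
  | cons b l ih =>
    rintro hle ⟨a, ha, hap⟩
    rw [List.map_cons, List.map_cons, List.prod_cons, List.prod_cons]
    have hle' : ∀ x ∈ l, g x ≤ h x := fun x hx => hle x (List.mem_cons_of_mem _ hx)
    rcases List.mem_cons.mp ha with rfl | hal
    · calc g a * (l.map g).prod * p = (g a * p) * (l.map g).prod := by ring
        _ ≤ h a * (l.map h).prod := Nat.mul_le_mul hap (list_prod_le g h l hle')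
    · calc g b * (l.map g).prod * p = g b * ((l.map g).prod * p) := by ring
        _ ≤ h b * (l.map h).prod :=
          Nat.mul_le_mul (hle b List.mem_cons_self) (ih hle' ⟨a, hal, hap⟩)

theorem index_centralizer_map_le [Finite G] {H : Type*} [Group H] (f : G →* H)
    (hf : Function.Surjective f) (x : G) :
    (Subgroup.centralizer {f x}).index ≤ (Subgroup.centralizer {x}).index := by
  have h1 : Subgroup.centralizer {x} ≤ (Subgroup.centralizer {f x}).comap f := by
    intro g hg
    rw [Subgroup.mem_comap, Subgroup.mem_centralizer_iff]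
    intro h hh
    rw [Set.mem_singleton_iff] at hh
    subst hh
    have := (Subgroup.mem_centralizer_iff.mp hg) x rfl
    rw [← map_mul, ← map_mul, this]
  have h2 := Subgroup.index_dvd_of_le h1
  rw [Subgroup.index_comap_of_surjective _ hf] at h2
  exact Nat.le_of_dvd (Nat.pos_of_ne_zero Subgroup.index_ne_zero_of_finite) h2

theorem index_centralizer_map_mul_le [Finite G] {p : ℕ} [hp : Fact p.Prime] (hG : IsPGroup p G)
    {H : Type*} [Group H] (f : G →* H) (hf : Function.Surjective f) (a y : G)
    (h1 : f ⁅y, a⁆ = 1) (h2 : ⁅y, a⁆ ≠ 1) :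
    (Subgroup.centralizer {f a}).index * p ≤ (Subgroup.centralizer {a}).index := by
  set D := (Subgroup.centralizer {f a}).comap f with hD
  have hle : Subgroup.centralizer {a} ≤ D := by
    intro g hg
    rw [hD, Subgroup.mem_comap, Subgroup.mem_centralizer_iff]
    intro h hh
    rw [Set.mem_singleton_iff] at hh
    subst hh
    have := (Subgroup.mem_centralizer_iff.mp hg) a rfl
    rw [← map_mul, ← map_mul, this]
  have hyD : y ∈ D := by
    rw [hD, Subgroup.mem_comap, Subgroup.mem_centralizer_iff]
    intro h hh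
    rw [Set.mem_singleton_iff] at hh
    subst hh
    rw [map_commutatorElement, commutatorElement_eq_one_iff_mul_comm] at h1
    exact h1.symm
  have hynot : y ∉ Subgroup.centralizer {a} := by
    intro hy
    apply h2
    rw [commutatorElement_eq_one_iff_mul_comm]
    exact ((Subgroup.mem_centralizer_iff.mp hy) a rfl).symm
  have hidx := Subgroup.relIndex_mul_index hle
  rw [hD, Subgroup.index_comap_of_surjective _ hf] at hidx
  have hrel1 : (Subgroup.centralizer {a}).relIndex D ≠ 1 := by
    intro h
    exact hynot (Subgroup.relIndex_eq_one.mp h hyD)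
  have hdvd : (Subgroup.centralizer {a}).relIndex D ∣ Nat.card G :=
    (Subgroup.relIndex_dvd_card _ _).trans (Subgroup.card_subgroup_dvd_card D)
  obtain ⟨n, hn⟩ := IsPGroup.iff_card.mp hG
  rw [hn, Nat.dvd_prime_pow hp.out] at hdvd
  obtain ⟨j, -, hj⟩ := hdvd
  have hj1 : 1 ≤ j := by
    by_contra h0
    have : j = 0 := by omega
    rw [this, pow_zero] at hj
    exact hrel1 hj
  have hpr : p ≤ (Subgroup.centralizer {a}).relIndex D := by
    rw [hj]
    calc p = p ^ 1 := (pow_one p).symm
      _ ≤ p ^ j := Nat.pow_le_pow_right hp.out.pos hj1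
  rw [← hidx, mul_comm]
  exact Nat.mul_le_mul_right _ hpr

theorem card_commutator_le_mul [Finite G] {H : Type*} [Group H] (f : G →* H)
    (hf : Function.Surjective f) :
    Nat.card (commutator G) ≤ Nat.card f.ker * Nat.card (commutator H) := by
  rw [subgroup_card_eq_inf_mul_relIndex f.ker (commutator G), Subgroup.relIndex_ker,
    map_commutator_of_surjective f hf]
  exact Nat.mul_le_mul_right _ (Subgroup.card_le_of_le inf_le_left)

end Step

section Main

universe u

theorem lemmaY {p : ℕ} [hp : Fact p.Prime] : ∀ (m : ℕ) (G : Type u) [Group G] [Finite G],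
    Nat.card G = m → IsPGroup p G → ∀ l : List G, Subgroup.closure {x | x ∈ l} = ⊤ →
    GenCond p l →
    Nat.card (commutator G) * p ^ (l.length.choose 2)
      ≤ (l.map fun x => (Subgroup.centralizer {x}).index).prod := by
  intro m
  induction m using Nat.strong_induction_on with
  | _ m ih =>
    intro G _ _ hm hG l hl hgen
    by_cases h3 : g3 G = ⊥
    · have hcl : ∀ c ∈ commutator G, ∀ g : G, c * g = g * c := by
        intro c hc g
        have : ⁅c, g⁆ ∈ g3 G := commutator_mem_g3 hc
        rw [h3, Subgroup.mem_bot, commutatorElement_eq_one_iff_mul_comm] at this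
        exact this
      have h1 := base_bound hcl (p := p) l hgen
      have h2 : Nat.card (commutator G) ≤ Nat.card (Ssup hcl l) :=
        Subgroup.card_le_of_le (commutator_le_Ssup hcl l hl)
      exact (Nat.mul_le_mul_right _ h2).trans h1
    · obtain ⟨a, y, z, hal, hyz, hzc, hz3, hzo⟩ := exists_central_comm hG l hl h3
      set Z := Subgroup.zpowers z with hZ
      have hZc : Z ≤ Subgroup.center G := by
        rw [hZ, Subgroup.zpowers_le]; exact hzc
      haveI hZn : Z.Normal := by
        constructor
        intro n hn g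
        have h1 : g * n = n * g := Subgroup.mem_center_iff.mp (hZc hn) g
        have : g * n * g⁻¹ = n := by rw [h1]; group
        rw [this]; exact hn
      have hZ3 : Z ≤ g3 G := by
        rw [hZ, Subgroup.zpowers_le]; exact hz3
      have hZcard : Nat.card Z = p := by
        rw [hZ, Nat.card_zpowers, hzo]
      set f := QuotientGroup.mk' Z with hf
      have hfs : Function.Surjective f := QuotientGroup.mk'_surjective Z
      have hker : f.ker = Z := QuotientGroup.ker_mk' Z
      have hcardlt : Nat.card (G ⧸ Z) < m := by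
        have h1 := Subgroup.card_eq_card_quotient_mul_card_subgroup Z
        rw [hZcard, hm] at h1
        have hpos : 0 < Nat.card (G ⧸ Z) := Nat.card_pos
        have hp2 : 2 ≤ p := hp.out.two_le
        nlinarith
      have hl' : Subgroup.closure {x | x ∈ l.map f} = ⊤ := by
        rw [← image_list_set, ← MonoidHom.map_closure, hl, Subgroup.map_top_of_surjective f hfs]
      have hgen' : GenCond p (l.map f) :=
        genCond_map f hfs (hker.symm ▸ hZ3) (hker.symm ▸ hZc) l hgen
      have hIH := ih (Nat.card (G ⧸ Z)) hcardlt (G ⧸ Z) rfl (hG.to_quotient Z) (l.map f)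
        hl' hgen'
      rw [List.length_map, List.map_map] at hIH
      have hz1 : z ≠ 1 := by
        intro h
        rw [h, orderOf_one] at hzo
        exact hp.out.one_lt.ne hzo
      have hfz : f ⁅y, a⁆ = 1 := by
        rw [hyz, ← MonoidHom.mem_ker, hker, hZ]
        exact Subgroup.mem_zpowers z
      have hprod : (l.map ((fun x => (Subgroup.centralizer {x}).index) ∘ f)).prod * p
          ≤ (l.map fun x => (Subgroup.centralizer {x}).index).prod := by
        apply list_prod_mul_le
        · intro x _
          exact index_centralizer_map_le f hfs x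
        · exact ⟨a, hal, index_centralizer_map_mul_le hG f hfs a y hfz (hyz ▸ hz1)⟩
      have hcomm := card_commutator_le_mul f hfs
      rw [hker, hZcard] at hcomm
      calc Nat.card (commutator G) * p ^ (l.length.choose 2)
          ≤ (p * Nat.card (commutator (G ⧸ Z))) * p ^ (l.length.choose 2) :=
            Nat.mul_le_mul_right _ hcomm
        _ = (Nat.card (commutator (G ⧸ Z)) * p ^ (l.length.choose 2)) * p := by ring
        _ ≤ (l.map ((fun x => (Subgroup.centralizer {x}).index) ∘ f)).prod * p :=
            Nat.mul_le_mul_right _ hIH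
        _ ≤ _ := hprod

end Main

end Cfsg.Agent.Lib.Helper5.VL
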